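import Groth.Agent.CAlgNagata.Witness
import Mathlib.RingTheory.RegularLocalRing.Defs
import Mathlib.RingTheory.Ideal.KrullsHeightTheorem
import Mathlib.RingTheory.TensorProduct.Quotient

/-!
# A criterion for analytic unramifiedness
-/

universe u

open TensorProduct IsLocalRing

namespace Groth.Agent.CAlgAnUnCrit

/-- Witness at a regular height one prime. -/
lemma exists_witness_of_regular {R : Type u} [CommRing R] [IsDomain R] [IsNoetherianRing R]
    {x : R} (p : Ideal R) [p.IsPrime] (hmin : p ∈ (Ideal.span {x}).minimalPrimes)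
    (hreg : IsRegularLocalRing (Localization.AtPrime p)) (hx : x ≠ 0) :
    ∃ w π : R, w ∉ p ∧ π ∈ p ∧ π ≠ 0 ∧ ∀ y ∈ p, ∃ v, w * y = π * v := by
  classical
  have hxp : x ∈ p := hmin.1.2 (Ideal.mem_span_singleton_self x)
  haveI : (Ideal.span {x} : Ideal R).IsPrincipal := ⟨⟨x, rfl⟩⟩
  have hht : p.height ≤ 1 := Ideal.height_le_one_of_isPrincipal_of_mem_minimalPrimes _ _ hmin
  have hrank : (maximalIdeal (Localization.AtPrime p)).spanFinrank ≤ 1 := by
    have h := IsRegularLocalRing.spanFinrank_maximalIdeal (R := Localization.AtPrime p)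
    rw [IsLocalization.AtPrime.ringKrullDim_eq_height p] at h
    have h2 : ((maximalIdeal (Localization.AtPrime p)).spanFinrank : WithBot ℕ∞) ≤ 1 := by
      rw [h]; exact_mod_cast hht
    exact_mod_cast h2
  obtain ⟨s, hs, hspan⟩ := Submodule.FG.exists_span_finset_card_eq_spanFinrank
    (IsNoetherian.noetherian (maximalIdeal (Localization.AtPrime p)))
  have hinj : Function.Injective (algebraMap R (Localization.AtPrime p)) :=
    IsLocalization.injective _ p.primeCompl_le_nonZeroDivisors
  obtain ⟨g, hg⟩ : ∃ g, maximalIdeal (Localization.AtPrime p) = Ideal.span {g} := by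
    rcases Finset.card_le_one_iff_subset_singleton.1 (hs.le.trans hrank) with ⟨g, hg⟩
    rcases Finset.subset_singleton_iff.1 hg with rfl | rfl
    · exact ⟨0, by rw [← hspan]; simp⟩
    · exact ⟨g, by rw [← hspan]; simp⟩
  obtain ⟨π, t, rfl⟩ := IsLocalization.exists_mk'_eq p.primeCompl g
  have hmem : π ∈ p := by
    rw [← IsLocalization.AtPrime.to_map_mem_maximal_iff (Localization.AtPrime p) p,
      ← IsLocalization.mk'_spec (Localization.AtPrime p) π t]
    exact Ideal.mul_mem_right _ _ (hg ▸ Ideal.mem_span_singleton_self _)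
  have hdiv : ∀ y ∈ p, ∃ (w : R), w ∉ p ∧ ∃ v, w * y = π * v := by
    intro y hy
    have h1 : algebraMap R (Localization.AtPrime p) y ∈ maximalIdeal _ :=
      (IsLocalization.AtPrime.to_map_mem_maximal_iff _ p y).2 hy
    rw [hg, Ideal.mem_span_singleton'] at h1
    obtain ⟨c, hc⟩ := h1
    obtain ⟨a, d, rfl⟩ := IsLocalization.exists_mk'_eq p.primeCompl c
    rw [← IsLocalization.mk'_mul, IsLocalization.mk'_eq_iff_eq_mul, ← map_mul] at hc
    exact ⟨(d * t : p.primeCompl).1, (d * t).2, a, by
      rw [mul_comm _ y, ← hinj hc]; ring⟩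
  have hπ0 : π ≠ 0 := fun e => by
    obtain ⟨w, hw, v, hv⟩ := hdiv x hxp
    rw [e, zero_mul] at hv
    exact hw (((mul_eq_zero.1 hv).resolve_right hx) ▸ p.zero_mem)
  obtain ⟨G, hG⟩ := IsNoetherian.noetherian p
  choose! ws hws hv using hdiv
  refine ⟨∏ y ∈ G, ws y, π, (prod_mem fun y hy => hws y (hG ▸ Submodule.subset_span hy) :
    ∏ y ∈ G, ws y ∈ p.primeCompl), hmem, hπ0, fun y hy => ?_⟩
  rw [← hG] at hy
  induction hy using Submodule.span_induction with
  | mem y hy =>
    obtain ⟨v, hv'⟩ := hv y (hG ▸ Submodule.subset_span hy)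
    obtain ⟨c, hc⟩ := Finset.dvd_prod_of_mem ws (Finset.mem_coe.1 hy)
    exact ⟨c * v, by rw [hc]; linear_combination c * hv'⟩
  | zero => exact ⟨0, by simp⟩
  | add a b _ _ ha hb =>
    obtain ⟨va, ha⟩ := ha
    obtain ⟨vb, hb⟩ := hb
    exact ⟨va + vb, by linear_combination ha + hb⟩
  | smul c a _ ha =>
    obtain ⟨v, ha⟩ := ha
    exact ⟨c * v, by rw [smul_eq_mul]; linear_combination c * ha⟩

variable {R : Type u} [CommRing R] [IsLocalRing R] [IsNoetherianRing R]

/-- Completion tensor a quotient embeds in the completion of the quotient. -/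
lemma isReduced_completion_tensor_quotient (p : Ideal R) [p.IsPrime]
    (hred : IsReduced (AdicCompletion ((maximalIdeal R).map (Ideal.Quotient.mk p)) (R ⧸ p))) :
    IsReduced (AdicCompletion (maximalIdeal R) R ⊗[R] (R ⧸ p)) := by
  let B := AdicCompletion (maximalIdeal R) R
  let I := (maximalIdeal R).map (Ideal.Quotient.mk p)
  let q : ∀ n : ℕ, (R ⧸ maximalIdeal R ^ n) →ₐ[R] (R ⧸ p) ⧸ I ^ n := fun n =>
    Ideal.quotientMapₐ (I ^ n) (Ideal.Quotient.mkₐ R p)
      (Ideal.map_le_iff_le_comap.1 (Ideal.map_pow (Ideal.Quotient.mk p) (maximalIdeal R) n).le)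
  let fs : ∀ n : ℕ, B →ₐ[R] (R ⧸ p) ⧸ I ^ n := fun n => (q n).comp (AdicCompletion.evalₐ (maximalIdeal R) n)
  have hcompat : ∀ {m n : ℕ} (hle : m ≤ n),
      (Ideal.Quotient.factorₐ R (Ideal.pow_le_pow_right hle)).comp (fs n) = fs m := by
    intro m n hle
    refine AlgHom.ext fun b => ?_
    induction b using AdicCompletion.induction_on with
    | _ a =>
    simp only [fs, AlgHom.comp_apply, AdicCompletion.evalₐ_mk]
    show Ideal.Quotient.mk (I ^ m) (Ideal.Quotient.mk p (a.val n)) = Ideal.Quotient.mk (I ^ m) (Ideal.Quotient.mk p (a.val m))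
    rw [Ideal.Quotient.eq, ← map_sub]
    have h1 := Ideal.Quotient.eq.1 (AdicCompletion.Ideal.mk_eq_mk (I := maximalIdeal R) hle a)
    exact (Ideal.map_pow (Ideal.Quotient.mk p) (maximalIdeal R) m).le (Ideal.mem_map_of_mem _ h1)
  let Φ : B →ₐ[R] AdicCompletion I (R ⧸ p) := AdicCompletion.liftAlgHom I fs hcompat
  have hΦ : ∀ n b, AdicCompletion.evalₐ I n (Φ b) = q n (AdicCompletion.evalₐ (maximalIdeal R) n b) :=
    fun n b => AdicCompletion.evalₐ_liftAlgHom I fs hcompat n b
  haveI : IsNoetherianRing B := AdicNoeth.isNoetherianRing_adicCompletion _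
  have hker : RingHom.ker Φ.toRingHom = p.map (algebraMap R B) := by
    refine le_antisymm (fun b hb => ?_) (Ideal.map_le_iff_le_comap.2 fun a ha => ?_)
    · -- approximations
      have hstep : ∀ n, b ∈ p.map (algebraMap R B) ⊔ maximalIdeal B ^ n := fun n => by
        obtain ⟨a, ha⟩ := Ideal.Quotient.mk_surjective (AdicCompletion.evalₐ (maximalIdeal R) n b)
        have h0 : Ideal.Quotient.mk (I ^ n) (Ideal.Quotient.mk p a) = 0 := by
          have := hΦ n b
          rw [show Φ b = 0 from hb, map_zero, ← ha] at this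
          exact this.symm
        rw [Ideal.Quotient.eq_zero_iff_mem, ← Ideal.map_pow, ← Ideal.mem_comap,
          Ideal.comap_map_of_surjective _ Ideal.Quotient.mk_surjective, ← RingHom.ker_eq_comap_bot,
          Ideal.mk_ker, sup_comm] at h0
        have h2 : b - algebraMap R B a ∈ maximalIdeal B ^ n := by
          rw [AdicCompletion.maximalIdeal_eq_map, ← Ideal.map_pow, ← Submodule.restrictScalars_mem R,
            ← Ideal.smul_top_eq_map, AdicCompletion.pow_smul_top_eq_ker_eval (IsNoetherian.noetherian _),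
            LinearMap.mem_ker]
          have h3 : AdicCompletion.evalₐ (maximalIdeal R) n (b - algebraMap R B a) = 0 := by
            rw [map_sub, AlgHom.commutes, ← ha]; exact sub_self _
          rw [← AdicCompletion.factor_evalₐ_eq_eval (maximalIdeal R) _ (by simp), h3, map_zero]
        rw [← sub_add_cancel b (algebraMap R B a)]
        refine add_mem (Ideal.mem_sup_right h2) ?_
        rw [AdicCompletion.maximalIdeal_eq_map, ← Ideal.map_pow, ← Ideal.map_sup]
        exact Ideal.mem_map_of_mem _ h0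
      let π := Ideal.Quotient.mk (p.map (algebraMap R B))
      rw [← Ideal.Quotient.eq_zero_iff_mem]
      haveI : Nontrivial (B ⧸ p.map (algebraMap R B)) := Ideal.Quotient.nontrivial_iff.2 fun e => by
        have h1 : p.map (algebraMap R B) ≤ maximalIdeal B := by
          rw [AdicCompletion.maximalIdeal_eq_map]
          exact Ideal.map_mono (le_maximalIdeal Ideal.IsPrime.ne_top')
        exact (maximalIdeal.isMaximal B).ne_top (top_le_iff.1 (e ▸ h1))
      haveI : IsLocalRing (B ⧸ p.map (algebraMap R B)) := IsLocalRing.of_surjective' π Ideal.Quotient.mk_surjective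
      have hkr := Ideal.iInf_pow_eq_bot_of_isLocalRing (maximalIdeal (B ⧸ p.map (algebraMap R B)))
        (maximalIdeal.isMaximal _).ne_top
      rw [← Submodule.mem_bot (B ⧸ p.map (algebraMap R B)), ← hkr, Submodule.mem_iInf]
      intro n
      obtain ⟨u, hu, v, hv, huv⟩ := Submodule.mem_sup.1 (hstep n)
      rw [← huv, map_add, Ideal.Quotient.eq_zero_iff_mem.2 hu, zero_add]
      have hmap : (maximalIdeal B).map π ≤ maximalIdeal (B ⧸ p.map (algebraMap R B)) :=
        Ideal.map_le_iff_le_comap.2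
          (IsLocalRing.eq_maximalIdeal (Ideal.comap_isMaximal_of_surjective π Ideal.Quotient.mk_surjective)).ge
      exact Ideal.pow_right_mono hmap n (Ideal.map_pow π (maximalIdeal B) n ▸ Ideal.mem_map_of_mem _ hv)
    · show Φ (algebraMap R B a) = 0
      rw [Φ.commutes, IsScalarTower.algebraMap_apply R (R ⧸ p) (AdicCompletion I (R ⧸ p)),
        Ideal.Quotient.algebraMap_eq, Ideal.Quotient.eq_zero_iff_mem.2 ha, map_zero]
  haveI : IsReduced (B ⧸ p.map (algebraMap R B)) := by
    refine (Ideal.isRadical_iff_quotient_reduced _).1 ?_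
    rw [← hker]
    intro b hb
    obtain ⟨k, hk⟩ := hb
    exact (show IsNilpotent (Φ b) from ⟨k, by rw [← map_pow]; exact hk⟩).eq_zero
  exact isReduced_of_injective (Algebra.TensorProduct.quotIdealMapEquivTensorQuot B p).symm
    (Algebra.TensorProduct.quotIdealMapEquivTensorQuot B p).symm.injective

/-- Stacks 0331. -/
theorem isReduced_completion_of_criterion [IsDomain R] (x : R) (hx : x ≠ 0) (hxm : x ∈ maximalIdeal R)
    (hemb : ∀ p ∈ associatedPrimes R (R ⧸ Ideal.span {x}), p ∈ (Ideal.span {x}).minimalPrimes)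
    (hreg : ∀ p ∈ associatedPrimes R (R ⧸ Ideal.span {x}), ∀ (_ : p.IsPrime),
      IsRegularLocalRing (Localization.AtPrime p) ∧
        IsReduced (AdicCompletion ((maximalIdeal R).map (Ideal.Quotient.mk p)) (R ⧸ p))) :
    IsReduced (AdicCompletion (maximalIdeal R) R) := by
  let Rh := AdicCompletion (maximalIdeal R) R
  haveI := CAlgN2.faithfullyFlat_completion R
  haveI : IsNoetherianRing Rh := AdicNoeth.isNoetherianRing_adicCompletion _
  have hass : ∀ (p : Ideal R) (b₀ : R), p.IsPrime → (∀ r, r ∈ p ↔ x ∣ r * b₀) →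
      p ∈ associatedPrimes R (R ⧸ Ideal.span {x}) := fun p b₀ hp h => by
    refine isAssociatedPrime_iff.2 ⟨hp, Ideal.Quotient.mk _ b₀, ?_⟩
    ext r
    rw [h, Submodule.mem_colon_singleton, Submodule.mem_bot, Algebra.smul_def,
      Ideal.Quotient.algebraMap_eq, ← map_mul, Ideal.Quotient.eq_zero_iff_mem, Ideal.mem_span_singleton]
  let e := Algebra.TensorProduct.rid R R Rh
  suffices hT : IsReduced (Rh ⊗[R] R) from isReduced_of_injective e.symm e.symm.injective
  haveI : IsNoetherianRing (Rh ⊗[R] R) := isNoetherianRing_of_ringEquiv Rh e.symm.toRingEquiv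
  refine CAlgNagata.isReduced_of_nilpotent_mem_span (X := (1 : Rh) ⊗ₜ[R] x)
    (CAlgN2.one_tmul_mul_injective hx) ?_ fun z hz => ?_
  · refine Ideal.mem_sInf.2 fun {J} hJ => ?_
    haveI : J.IsMaximal := hJ.2
    haveI : (J.comap e.symm.toRingEquiv.toRingHom).IsMaximal :=
      Ideal.comap_isMaximal_of_surjective _ e.symm.surjective
    have h1 : algebraMap R Rh x ∈ J.comap e.symm.toRingEquiv.toRingHom := by
      refine Ideal.mem_sInf.1 (maximalIdeal_le_jacobson _ ?_) ⟨bot_le, inferInstance⟩
      rw [AdicCompletion.maximalIdeal_eq_map]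
      exact Ideal.mem_map_of_mem _ hxm
    have h2 : e.symm (algebraMap R Rh x) = (1 : Rh) ⊗ₜ[R] x := by
      apply e.injective
      rw [e.apply_symm_apply, Algebra.TensorProduct.rid_tmul, Algebra.algebraMap_eq_smul_one]
    exact h2 ▸ h1
  refine CAlgN2.nilpotent_mem_span' hx (fun p hp b₀ _ h => ?_) (fun p b₀ hp h _ => ?_) hz
  · exact exists_witness_of_regular p (hemb p (hass p b₀ hp h)) (hreg p (hass p b₀ hp h) hp).1 hx
  · haveI := hp
    exact isReduced_completion_tensor_quotient p (hreg p (hass p b₀ hp h) hp).2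

end Groth.Agent.CAlgAnUnCrit
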